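import Mathlib
import Groth.Agent.H78.BranchDim1.CoheightOne
import Groth.Agent.H78.MinPrimeFlat

/-!
# The condition "every irreducible component has dimension at least two" (towards S16575)
-/

set_option autoImplicit false
set_option linter.style.haveILetI false
universe u

namespace Groth.Agent.H78.C2

open IsLocalRing Groth.Agent.H78.BranchDim1

theorem two_le_iff_of_nonneg (d : WithBot ℕ∞) (hd : 0 ≤ d) : 2 ≤ d ↔ d ≠ 0 ∧ d ≠ 1 := by
  induction d using WithBot.recBotCoe with
  | bot => exact absurd hd (by simp)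
  | coe n =>
    induction n using ENat.recTopCoe with
    | top =>
      refine ⟨fun _ => ⟨?_, ?_⟩, fun _ => ?_⟩
      · exact fun h => by
          have := WithBot.coe_injective h
          exact ENat.top_ne_zero this
      · exact fun h => by
          have := WithBot.coe_injective h
          exact ENat.top_ne_one this
      · exact WithBot.coe_le_coe.mpr le_top
    | coe n =>
      have h2 : ((2 : WithBot ℕ∞) ≤ ((n : ℕ∞) : WithBot ℕ∞)) ↔ 2 ≤ n := by
        have : (2 : WithBot ℕ∞) = (((2 : ℕ) : ℕ∞) : WithBot ℕ∞) := rfl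
        rw [this, WithBot.coe_le_coe, Nat.cast_le]
      have h0 : (((n : ℕ∞) : WithBot ℕ∞) = 0) ↔ n = 0 := by
        have : (0 : WithBot ℕ∞) = (((0 : ℕ) : ℕ∞) : WithBot ℕ∞) := rfl
        rw [this, WithBot.coe_inj, Nat.cast_inj]
      have h1 : (((n : ℕ∞) : WithBot ℕ∞) = 1) ↔ n = 1 := by
        have : (1 : WithBot ℕ∞) = (((1 : ℕ) : ℕ∞) : WithBot ℕ∞) := rfl
        rw [this, WithBot.coe_inj, Nat.cast_inj]
      rw [h2, Ne, Ne, h0, h1]
      omega

section Local

variable {R : Type u} [CommRing R] [IsLocalRing R]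

omit [IsLocalRing R] in
theorem ringKrullDim_quotient_nonneg (p : Ideal R) [p.IsPrime] : 0 ≤ ringKrullDim (R ⧸ p) := by
  haveI : Nontrivial (R ⧸ p) := Ideal.Quotient.nontrivial_iff.mpr (Ideal.IsPrime.ne_top inferInstance)
  exact ringKrullDim_nonneg_of_nontrivial

theorem eq_maximalIdeal_of_dim_zero (p : Ideal R) [p.IsPrime]
    (h : ringKrullDim (R ⧸ p) = 0) : p = maximalIdeal R := by
  by_contra hne
  have := one_le_ringKrullDim_quotient p hne
  rw [h] at this
  exact absurd this (by decide)

theorem ringKrullDim_quotient_maximalIdeal : ringKrullDim (R ⧸ maximalIdeal R) = 0 := by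
  have hf : IsField (R ⧸ maximalIdeal R) := by
    rw [← Ideal.Quotient.maximal_ideal_iff_isField_quotient]
    exact IsLocalRing.maximalIdeal.isMaximal R
  exact ringKrullDim_eq_zero_of_isField hf

/-- the `c₂` condition as the absence of components of dimension `0` and `1` -/
theorem c2_iff :
    (∀ p ∈ minimalPrimes R, (2 : WithBot ℕ∞) ≤ ringKrullDim (R ⧸ p)) ↔
      (¬ ∃ p ∈ minimalPrimes R, ringKrullDim (R ⧸ p) = 0) ∧
        ¬ ∃ p ∈ minimalPrimes R, ringKrullDim (R ⧸ p) = 1 := by
  constructor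
  · intro h
    refine ⟨?_, ?_⟩
    · rintro ⟨p, hp, hd⟩
      haveI : p.IsPrime := hp.1.1
      exact ((two_le_iff_of_nonneg _ (ringKrullDim_quotient_nonneg p)).mp (h p hp)).1 hd
    · rintro ⟨p, hp, hd⟩
      haveI : p.IsPrime := hp.1.1
      exact ((two_le_iff_of_nonneg _ (ringKrullDim_quotient_nonneg p)).mp (h p hp)).2 hd
  · rintro ⟨h0, h1⟩ p hp
    haveI : p.IsPrime := hp.1.1
    rw [two_le_iff_of_nonneg _ (ringKrullDim_quotient_nonneg p)]
    exact ⟨fun hd => h0 ⟨p, hp, hd⟩, fun hd => h1 ⟨p, hp, hd⟩⟩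

/-- if the maximal ideal is a minimal prime, it is the only prime -/
theorem eq_maximalIdeal_of_mem_minimalPrimes (hm : maximalIdeal R ∈ minimalPrimes R)
    (P : Ideal R) [P.IsPrime] : P = maximalIdeal R :=
  le_antisymm (IsLocalRing.le_maximalIdeal (Ideal.IsPrime.ne_top inferInstance))
    (hm.2 ⟨inferInstance, bot_le⟩ (IsLocalRing.le_maximalIdeal (Ideal.IsPrime.ne_top inferInstance)))

end Local

section Transfer

variable {H H' : Type u} [CommRing H] [IsLocalRing H] [CommRing H']
  [IsLocalRing H'] [Algebra H H'] [Module.Flat H H'] [IsLocalHom (algebraMap H H')]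

/-- components of dimension zero correspond along a flat local map with `m_H H' = m_H'` -/
theorem exists_dim_zero_iff
    (hmax : (maximalIdeal H).map (algebraMap H H') = maximalIdeal H') :
    (∃ P ∈ minimalPrimes H, ringKrullDim (H ⧸ P) = 0) ↔
      ∃ Q ∈ minimalPrimes H', ringKrullDim (H' ⧸ Q) = 0 := by
  constructor
  · rintro ⟨P, hP, hd⟩
    haveI : P.IsPrime := hP.1.1
    have hPm : P = maximalIdeal H := eq_maximalIdeal_of_dim_zero P hd
    rw [hPm] at hP
    obtain ⟨Q, hQ⟩ := (Ideal.nonempty_minimalPrimes (bot_ne_top : (⊥ : Ideal H') ≠ ⊤))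
    haveI : Q.IsPrime := hQ.1.1
    have hQH : Q.under H = maximalIdeal H := eq_maximalIdeal_of_mem_minimalPrimes hP (Q.under H)
    have hle : maximalIdeal H' ≤ Q := by
      rw [← hmax, Ideal.map_le_iff_le_comap, ← hQH]
    have hQm : Q = maximalIdeal H' :=
      le_antisymm (IsLocalRing.le_maximalIdeal (Ideal.IsPrime.ne_top inferInstance)) hle
    refine ⟨Q, hQ, ?_⟩
    rw [hQm]
    exact ringKrullDim_quotient_maximalIdeal
  · rintro ⟨Q, hQ, hd⟩
    haveI : Q.IsPrime := hQ.1.1
    have hQm : Q = maximalIdeal H' := eq_maximalIdeal_of_dim_zero Q hd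
    have hmin : Q.under H ∈ minimalPrimes H :=
      Groth.Agent.H78.MinPrimeFlat.under_mem_minimalPrimes (R := H) (S := H') hQ
    have hQH : Q.under H = maximalIdeal H := by
      rw [hQm, Ideal.under_def]
      exact IsLocalRing.maximalIdeal_comap (algebraMap H H')
    rw [hQH] at hmin
    exact ⟨maximalIdeal H, hmin, ringKrullDim_quotient_maximalIdeal⟩

end Transfer

section Hens

variable {H H' : Type u} [CommRing H] [HenselianLocalRing H] [IsNoetherianRing H] [CommRing H']
  [IsLocalRing H'] [IsNoetherianRing H'] [Algebra H H'] [Module.Flat H H']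
  [IsLocalHom (algebraMap H H')]

/-- the `c₂` condition passes between a henselian Noetherian local ring `H` and a flat local
extension `H'` with `m_H H' = m_H'` and trivial residue field extension -/
theorem c2_iff_of_package
    (hmax : (maximalIdeal H).map (algebraMap H H') = maximalIdeal H')
    (hres : ∀ b : H', ∃ d : H, b - algebraMap H H' d ∈ maximalIdeal H') :
    (∀ p ∈ minimalPrimes H, (2 : WithBot ℕ∞) ≤ ringKrullDim (H ⧸ p)) ↔
      ∀ q ∈ minimalPrimes H', (2 : WithBot ℕ∞) ≤ ringKrullDim (H' ⧸ q) := by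
  rw [c2_iff, c2_iff, exists_dim_zero_iff hmax]
  have h1 := exists_minimalPrimes_dim_one_iff hmax hres (⊥ : Ideal H)
  rw [Ideal.map_bot] at h1
  have h2 : (⊥ : Ideal H).minimalPrimes = minimalPrimes H := rfl
  have h3 : (⊥ : Ideal H').minimalPrimes = minimalPrimes H' := rfl
  rw [h2, h3] at h1
  rw [h1]

end Hens

end Groth.Agent.H78.C2
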