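import Mathlib
import Groth.Prelude.Def_Hensel
import Groth.Agent.H78.C2.Basic
import Groth.Agent.H78.BranchDim1.Punctured2

/-!
# `c₂` for the henselization and for the completion (towards S16575)
-/

set_option autoImplicit false
set_option linter.style.haveILetI false
universe u

namespace Groth.Agent.H78.C2

open IsLocalRing Groth.Agent.H3 Groth.Agent.H78.HensCompl Groth.Agent.H78.BranchDim1

variable (A S : Type u) [CommRing A] [IsLocalRing A] [IsNoetherianRing A] [CommRing S]
  [IsLocalRing S] [Algebra A S] [IsLocalHom (algebraMap A S)]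

theorem c2_henselization_iff_completion [Hensel.IsHenselization A S] :
    (∀ p ∈ minimalPrimes S, (2 : WithBot ℕ∞) ≤ ringKrullDim (S ⧸ p)) ↔
      ∀ q ∈ minimalPrimes (AdicCompletion (IsLocalRing.maximalIdeal A) A),
        (2 : WithBot ℕ∞) ≤ ringKrullDim (AdicCompletion (IsLocalRing.maximalIdeal A) A ⧸ q) := by
  have hH : Hensel.IsHenselization A S := inferInstance
  haveI := henselianLocalRing_adicCompletion A
  haveI : IsLocalHom (algebraMap A (AdicCompletion (maximalIdeal A) A)) := by
    refine ((IsLocalRing.local_hom_TFAE _).out 0 2).mpr ?_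
    rw [← AdicCompletion.maximalIdeal_eq_map]
  obtain ⟨ψ, hψ, -⟩ := hH.universal (AdicCompletion (maximalIdeal A) A)
    (algebraMap A (AdicCompletion (maximalIdeal A) A)) inferInstance
  obtain ⟨hflat, hloc⟩ := flat_and_isLocalHom A S ψ hψ
  letI : Algebra S (AdicCompletion (maximalIdeal A) A) := ψ.toAlgebra
  haveI : Module.Flat S (AdicCompletion (maximalIdeal A) A) := hflat
  haveI : IsLocalHom (algebraMap S (AdicCompletion (maximalIdeal A) A)) := hloc
  haveI : HenselianLocalRing S := hH.henselian
  haveI : IsNoetherianRing S := (Groth.Agent.S0511.result A S).mp inferInstance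
  haveI : IsNoetherianRing (AdicCompletion (maximalIdeal A) A) :=
    Groth.Agent.Lead.RLR.isNoetherianRing_adicCompletion' A (maximalIdeal A)
  have hPS := Groth.Agent.H3.HensIso.isPairHenselization_of_isHenselization hH
  have hmS : maximalIdeal S = (maximalIdeal A).map (algebraMap A S) :=
    Groth.Agent.H3.HensLocal.maximalIdeal_eq hPS
  have hmax : (maximalIdeal S).map (algebraMap S (AdicCompletion (maximalIdeal A) A)) =
      maximalIdeal (AdicCompletion (maximalIdeal A) A) := by
    change (maximalIdeal S).map ψ = _
    rw [hmS, Ideal.map_map, hψ, ← AdicCompletion.maximalIdeal_eq_map]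
  have hres : ∀ b : AdicCompletion (maximalIdeal A) A, ∃ d : S,
      b - algebraMap S (AdicCompletion (maximalIdeal A) A) d ∈
        maximalIdeal (AdicCompletion (maximalIdeal A) A) := by
    intro b
    obtain ⟨a, ha⟩ := exists_sub_mem_maximalIdeal A b
    refine ⟨algebraMap A S a, ?_⟩
    change b - ψ (algebraMap A S a) ∈ _
    have : ψ (algebraMap A S a) = algebraMap A (AdicCompletion (maximalIdeal A) A) a := by
      rw [← hψ]; rfl
    rw [this]
    exact ha
  exact c2_iff_of_package (H := S) (H' := AdicCompletion (maximalIdeal A) A) hmax hres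

end Groth.Agent.H78.C2
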