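import Mathlib
import Groth.Prelude.Def_CAlg
import Groth.Agent.H14.NormalFlatAscent
import Groth.Agent.H72.FlatCM
import Groth.Agent.H29.CM
import Groth.Agent.H54.Dim

/-!
# A depth argument: components of a flat extension of a normal domain of dimension `≥ 2`
have dimension `≥ 2` (towards S16576)
-/

set_option autoImplicit false
set_option linter.style.haveILetI false
universe u

namespace Groth.Agent.H78.C2

open IsLocalRing

/-- a ring map which is surjective up to units does not raise the Krull dimension -/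
theorem ringKrullDim_le_of_exists_unit_mul {X Y : Type*} [CommRing X] [CommRing Y] (φ : X →+* Y)
    (h : ∀ y : Y, ∃ a s : X, IsUnit (φ s) ∧ y * φ s = φ a) : ringKrullDim Y ≤ ringKrullDim X := by
  refine Order.krullDim_le_of_strictMono (PrimeSpectrum.comap φ) ?_
  intro P P' hlt
  have hle : PrimeSpectrum.comap φ P ≤ PrimeSpectrum.comap φ P' := by
    intro x hx
    exact hlt.le hx
  refine lt_of_le_of_ne hle ?_
  intro heq
  apply hlt.not_ge
  intro y hy
  obtain ⟨a, s, hs, hys⟩ := h y
  have ha : a ∈ (PrimeSpectrum.comap φ P').asIdeal := by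
    change φ a ∈ P'.asIdeal
    rw [← hys]
    exact P'.asIdeal.mul_mem_right _ hy
  rw [← heq] at ha
  have ha' : φ a ∈ P.asIdeal := ha
  obtain ⟨u, hu⟩ := hs
  have hy' : y = (y * φ s) * ↑u⁻¹ := by rw [← hu, mul_assoc, Units.mul_inv, mul_one]
  rw [hy', hys]
  exact P.asIdeal.mul_mem_right _ ha'

section Main

variable {D K D' : Type u} [CommRing D] [IsNoetherianRing D] [IsLocalRing D]
    [CommRing K] [IsNoetherianRing K] [IsLocalRing K] [IsDomain K] [IsIntegrallyClosed K]
    [CommRing D'] [Algebra D D'] [Algebra K D'] [Module.Finite D D'] [Module.Flat K D']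

theorem two_le_dim_quotient_of_flat_normal
    (hK : (2 : WithBot ℕ∞) ≤ ringKrullDim K)
    (hmax : ∀ n : Ideal D', n.IsMaximal → n.comap (algebraMap K D') = maximalIdeal K)
    (q : Ideal D) (hq : q ∈ minimalPrimes D) (hker : RingHom.ker (algebraMap D D') ≤ q) :
    (2 : WithBot ℕ∞) ≤ ringKrullDim (D ⧸ q) := by
  haveI : q.IsPrime := hq.1.1
  haveI : Algebra.IsIntegral D D' := inferInstance
  haveI : IsNoetherianRing D' := Algebra.FiniteType.isNoetherianRing D D'
  -- a minimal prime `q''` of `D'` over `q`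
  obtain ⟨Q, -, hQ, hQq⟩ := Ideal.exists_ideal_over_prime_of_isIntegral q (⊥ : Ideal D')
    (by rw [← RingHom.ker_eq_comap_bot]; exact hker)
  obtain ⟨q'', hq'', hq''Q⟩ := Ideal.exists_minimalPrimes_le (bot_le : (⊥ : Ideal D') ≤ Q)
  haveI : q''.IsPrime := hq''.1.1
  have hq''q : q''.comap (algebraMap D D') = q := by
    have h1 : q''.comap (algebraMap D D') ≤ q := by
      rw [← hQq]
      exact Ideal.comap_mono hq''Q
    exact le_antisymm h1 (hq.2 ⟨Ideal.comap_isPrime _ _, bot_le⟩ h1)
  -- dimensions of `D/q` and `D'/q''` agree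
  have e1 : ringKrullDim (D ⧸ q) = ringKrullDim (D' ⧸ q'') := by
    haveI : Algebra.IsIntegral (D ⧸ q''.comap (algebraMap D D')) (D' ⧸ q'') :=
      Algebra.IsIntegral.quotient
    have h2 := Groth.Agent.H54.ringKrullDim_eq_of_isIntegral_of_injective
      (R := D ⧸ q''.comap (algebraMap D D')) (S := D' ⧸ q'') (Ideal.algebraMap_quotient_injective)
    rw [← h2]
    exact ringKrullDim_eq_of_ringEquiv (Ideal.quotEquivOfEq hq''q.symm)
  -- localize at a maximal ideal
  obtain ⟨n, hn, hq''n⟩ := Ideal.exists_le_maximal q'' (Ideal.IsPrime.ne_top inferInstance)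
  haveI := hn
  let R := Localization.AtPrime n
  haveI : IsNoetherianRing R := IsLocalization.isNoetherianRing n.primeCompl R inferInstance
  haveI : Module.Flat D' R := IsLocalization.flat R n.primeCompl
  haveI : Module.Flat K R := Module.Flat.trans K D' R
  haveI : IsLocalHom (algebraMap K R) := by
    refine ((IsLocalRing.local_hom_TFAE (algebraMap K R)).out 0 4).mpr ?_
    have hn' : (maximalIdeal R).comap (algebraMap D' R) = n :=
      IsLocalization.AtPrime.under_maximalIdeal R n
    rw [IsScalarTower.algebraMap_eq K D' R, ← Ideal.comap_comap, hn', hmax n hn]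
  -- depth of `R`
  have hdK : (2 : ℕ∞) ≤ LocCoh.depth K K := by
    have h1 := Groth.Agent.H14.min_two_height_le_idealDepth_of_isIntegrallyClosed K
    have h2 : (2 : ℕ∞) ≤ (maximalIdeal K).height := by
      have h3 := IsLocalRing.maximalIdeal_height_eq_ringKrullDim (R := K)
      rw [← h3] at hK
      have hK' : ((2 : ℕ∞) : WithBot ℕ∞) ≤ ((maximalIdeal K).height : WithBot ℕ∞) := hK
      exact WithBot.coe_le_coe.mp hK'
    rw [min_eq_left h2] at h1
    exact h1
  have hdR : (2 : ℕ∞) ≤ LocCoh.depth R R := by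
    have h1 := Groth.Agent.H72.FlatCM.depth_eq_add_of_flat (A := K) (B := R)
    rw [h1]
    exact hdK.trans le_self_add
  -- a minimal prime of `R` over `q''`
  have hdisj : Disjoint (n.primeCompl : Set D') (q'' : Set D') := by
    rw [Set.disjoint_left]
    intro x hx hxq
    exact hx (hq''n hxq)
  have hq''R : (q''.map (algebraMap D' R)).IsPrime :=
    IsLocalization.isPrime_of_isPrime_disjoint n.primeCompl R q'' inferInstance hdisj
  obtain ⟨P, hP, hPle⟩ := Ideal.exists_minimalPrimes_le
    (bot_le : (⊥ : Ideal R) ≤ q''.map (algebraMap D' R))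
  haveI : P.IsPrime := hP.1.1
  have hPq'' : P.comap (algebraMap D' R) = q'' := by
    have h1 : P.comap (algebraMap D' R) ≤ q'' := by
      have := Ideal.comap_mono (f := algebraMap D' R) hPle
      have h2 : (q''.map (algebraMap D' R)).comap (algebraMap D' R) = q'' :=
        IsLocalization.under_map_of_isPrime_disjoint n.primeCompl R inferInstance hdisj
      rwa [h2] at this
    exact le_antisymm h1 (hq''.2 ⟨Ideal.comap_isPrime _ _, bot_le⟩ h1)
  have hPass : P ∈ associatedPrimes R R := by
    apply Module.associatedPrimes.minimalPrimes_annihilator_subset_associatedPrimes R R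
    have : Module.annihilator R R = ⊥ := by
      rw [eq_bot_iff]
      intro x hx
      have := Module.mem_annihilator.mp hx 1
      rw [smul_eq_mul, mul_one] at this
      exact this
    rw [this]
    exact hP
  have h3 := Groth.Agent.H29.CML.depth_le_ringKrullDim_quotient (A := R) R P hPass
  have h4 : (2 : WithBot ℕ∞) ≤ ringKrullDim (R ⧸ P) := by
    refine le_trans ?_ h3
    have : ((2 : ℕ∞) : WithBot ℕ∞) ≤ ((LocCoh.depth R R : ℕ∞) : WithBot ℕ∞) :=
      WithBot.coe_le_coe.mpr hdR
    exact this
  -- compare `R/P` with `D'/q''`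
  have h5 : ringKrullDim (R ⧸ P) ≤ ringKrullDim (D' ⧸ q'') := by
    refine ringKrullDim_le_of_exists_unit_mul
      (Ideal.quotientMap P (algebraMap D' R) (le_of_eq hPq''.symm)) ?_
    intro y
    obtain ⟨r, rfl⟩ := Ideal.Quotient.mk_surjective y
    obtain ⟨a, s, rfl⟩ := IsLocalization.exists_mk'_eq n.primeCompl r
    refine ⟨Ideal.Quotient.mk q'' a, Ideal.Quotient.mk q'' (s : D'), ?_, ?_⟩
    · rw [Ideal.quotientMap_mk]
      exact (IsLocalization.map_units R s).map (Ideal.Quotient.mk P)
    · rw [Ideal.quotientMap_mk, Ideal.quotientMap_mk, ← map_mul, IsLocalization.mk'_spec]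
  rw [e1]
  exact h4.trans h5

end Main

end Groth.Agent.H78.C2
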