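import Mathlib
import Groth.Agent.H78.C2.FlatDepth

/-!
# Components of a flat local extension over a prime admitting a finite normal cover
(towards S16576)
-/

set_option autoImplicit false
set_option linter.style.haveILetI false
universe u

namespace Groth.Agent.H78.C2

open IsLocalRing TensorProduct

section

variable {C D K : Type u} [CommRing C] [IsLocalRing C] [CommRing D] [IsNoetherianRing D]
  [IsLocalRing D] [Algebra C D] [IsLocalHom (algebraMap C D)] [Module.Flat C D]
  [CommRing K] [Algebra C K] [Module.Finite C K] [IsNoetherianRing K] [IsLocalRing K] [IsDomain K]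
  [IsIntegrallyClosed K]

/-- the kernel of `D → K ⊗ D` is `ker(C → K) D` for `D` flat over `C` -/
theorem ker_includeRight_le (d : D) (hd : (1 : K) ⊗ₜ[C] d = 0) :
    d ∈ (RingHom.ker (algebraMap C K)).map (algebraMap C D) := by
  set p : Ideal C := RingHom.ker (algebraMap C K) with hp
  -- the injection `C/p → K`
  let ι : (C ⧸ p) →ₗ[C] K := Submodule.liftQ (p.restrictScalars C) (Algebra.linearMap C K)
    (fun x hx => by
      rw [LinearMap.mem_ker]
      exact hx)
  have hι : Function.Injective ι := by
    rw [← LinearMap.ker_eq_bot]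
    apply Submodule.ker_liftQ_eq_bot
    intro x hx
    exact hx
  have hι1 : ι (1 : C ⧸ p) = 1 := by
    change algebraMap C K 1 = 1
    exact map_one _
  have hinj : Function.Injective (LinearMap.rTensor D ι) :=
    Module.Flat.rTensor_preserves_injective_linearMap ι hι
  have h1 : ((1 : C ⧸ p) ⊗ₜ[C] d : (C ⧸ p) ⊗[C] D) = 0 := by
    apply hinj
    rw [LinearMap.rTensor_tmul, hι1, hd, map_zero]
  have h2 := congrArg (TensorProduct.quotTensorEquivQuotSMul D p) h1
  rw [TensorProduct.quotTensorEquivQuotSMul_mk_one_tmul, map_zero,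
    Submodule.Quotient.mk_eq_zero, Ideal.smul_top_eq_map] at h2
  exact h2

theorem two_le_dim_quotient_of_normal_cover
    (hK : (2 : WithBot ℕ∞) ≤ ringKrullDim K)
    (q : Ideal D) (hq : q ∈ minimalPrimes D)
    (hker : RingHom.ker (algebraMap C K) = q.under C) :
    (2 : WithBot ℕ∞) ≤ ringKrullDim (D ⧸ q) := by
  letI algD : Algebra D (K ⊗[C] D) := Algebra.TensorProduct.rightAlgebra
  haveI : Module.Finite D (K ⊗[C] D) := by
    refine Module.Finite.of_equiv_equiv (A₁ := D) (B₁ := D ⊗[C] K) (RingEquiv.refl D)
      (Algebra.TensorProduct.comm C D K).toRingEquiv ?_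
    ext d
    simp [Algebra.TensorProduct.algebraMap_apply, RingHom.algebraMap_toAlgebra]
  have hKint : Algebra.IsIntegral C K := inferInstance
  refine two_le_dim_quotient_of_flat_normal (D := D) (K := K) (D' := K ⊗[C] D) hK ?_ q hq ?_
  · -- maximal ideals contract to the maximal ideal of `K`
    intro n hn
    haveI := hn
    haveI : Algebra.IsIntegral D (K ⊗[C] D) := inferInstance
    have h1 : (n.comap (algebraMap D (K ⊗[C] D))).IsMaximal :=
      Ideal.isMaximal_comap_of_isIntegral_of_isMaximal (R := D) n
    have h2 : n.comap (algebraMap D (K ⊗[C] D)) = maximalIdeal D := IsLocalRing.eq_maximalIdeal h1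
    have h3 : (n.comap (algebraMap D (K ⊗[C] D))).comap (algebraMap C D) = maximalIdeal C := by
      rw [h2]
      exact IsLocalRing.maximalIdeal_comap (algebraMap C D)
    have h4 : (n.comap (algebraMap K (K ⊗[C] D))).comap (algebraMap C K) = maximalIdeal C := by
      rw [← h3, Ideal.comap_comap, Ideal.comap_comap]
      congr 1
      ext c
      simp [Algebra.TensorProduct.algebraMap_apply, RingHom.algebraMap_toAlgebra,
        Algebra.algebraMap_eq_smul_one, TensorProduct.smul_tmul]
    haveI : (n.comap (algebraMap K (K ⊗[C] D))).IsPrime := Ideal.comap_isPrime _ _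
    have h5 : (n.comap (algebraMap K (K ⊗[C] D))).IsMaximal := by
      apply Ideal.isMaximal_of_isIntegral_of_isMaximal_comap (R := C)
      rw [h4]
      exact IsLocalRing.maximalIdeal.isMaximal C
    exact IsLocalRing.eq_maximalIdeal h5
  · intro d hd
    rw [RingHom.mem_ker] at hd
    have hd' : (1 : K) ⊗ₜ[C] d = 0 := hd
    have := ker_includeRight_le (C := C) (K := K) d hd'
    rw [hker] at this
    exact Ideal.map_comap_le this

end

end Groth.Agent.H78.C2
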