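import Mathlib
import Groth.Prelude.Def_Found
import Groth.Agent.H14.HensProp.IntHensMax
import Groth.Agent.S13598
import Groth.Agent.H54.Dim

/-!
# The normalisation of a quotient domain of a henselian Nagata local ring (towards S16576)
-/

set_option autoImplicit false
set_option linter.style.haveILetI false
universe u

namespace Groth.Agent.H78.C2

open IsLocalRing

theorem exists_normal_cover (C : Type u) [CommRing C] [HenselianLocalRing C] [IsNoetherianRing C]
    (hN : CAlg.IsNagata C) (p : Ideal C) [hp : p.IsPrime] :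
    ∃ (K : Type u) (_ : CommRing K) (_ : Algebra C K) (_ : Module.Finite C K)
      (_ : IsNoetherianRing K) (_ : IsLocalRing K) (_ : IsDomain K) (_ : IsIntegrallyClosed K),
      ringKrullDim K = ringKrullDim (C ⧸ p) ∧ RingHom.ker (algebraMap C K) = p := by
  haveI : IsDomain (C ⧸ p) := Ideal.Quotient.isDomain p
  haveI : IsLocalRing (C ⧸ p) :=
    IsLocalRing.of_surjective' (Ideal.Quotient.mk p) Ideal.Quotient.mk_surjective
  haveI : HenselianLocalRing (C ⧸ p) := Groth.Agent.S13598.henselian_quotient p
  have hfin₁ : Module.Finite (C ⧸ p) (integralClosure (C ⧸ p) (FractionRing (C ⧸ p))) :=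
    (hN.2 p) (FractionRing (C ⧸ p)) inferInstance
  haveI := hfin₁
  haveI : Module.Finite C (integralClosure (C ⧸ p) (FractionRing (C ⧸ p))) :=
    Module.Finite.trans (C ⧸ p) _
  haveI : IsNoetherianRing (integralClosure (C ⧸ p) (FractionRing (C ⧸ p))) :=
    Algebra.FiniteType.isNoetherianRing C _
  haveI : IsIntegrallyClosed (integralClosure (C ⧸ p) (FractionRing (C ⧸ p))) :=
    integralClosure.isIntegrallyClosedOfFiniteExtension (FractionRing (C ⧸ p))
  haveI : Algebra.IsIntegral (C ⧸ p) (integralClosure (C ⧸ p) (FractionRing (C ⧸ p))) :=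
    inferInstance
  have hloc : IsLocalRing (integralClosure (C ⧸ p) (FractionRing (C ⧸ p))) := by
    obtain ⟨M, hM⟩ := Ideal.exists_maximal (integralClosure (C ⧸ p) (FractionRing (C ⧸ p)))
    refine IsLocalRing.of_unique_max_ideal ⟨M, hM, fun M' hM' => ?_⟩
    haveI := hM
    haveI := hM'
    haveI : (⊥ : Ideal (integralClosure (C ⧸ p) (FractionRing (C ⧸ p)))).IsPrime := Ideal.isPrime_bot
    exact Groth.Agent.H14.HensProp.IntHensMax.eq_of_le_of_le (C ⧸ p) _ ⊥ M' M bot_le bot_le
  have hinj : Function.Injective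
      (algebraMap (C ⧸ p) (integralClosure (C ⧸ p) (FractionRing (C ⧸ p)))) := by
    intro x y hxy
    have := congrArg Subtype.val hxy
    exact IsFractionRing.injective (C ⧸ p) (FractionRing (C ⧸ p)) this
  refine ⟨integralClosure (C ⧸ p) (FractionRing (C ⧸ p)), inferInstance, inferInstance,
    inferInstance, inferInstance, hloc, inferInstance, inferInstance, ?_, ?_⟩
  · exact (Groth.Agent.H54.ringKrullDim_eq_of_isIntegral_of_injective hinj).symm
  · ext c
    rw [RingHom.mem_ker, IsScalarTower.algebraMap_apply C (C ⧸ p)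
      (integralClosure (C ⧸ p) (FractionRing (C ⧸ p))),
      map_eq_zero_iff _ hinj, Ideal.Quotient.algebraMap_eq, Ideal.Quotient.eq_zero_iff_mem]

end Groth.Agent.H78.C2
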