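import Mathlib
import Groth.Prelude.Def_Found
import Groth.Agent.H78.C2.FlatTensor
import Groth.Agent.H78.C2.NormalCover
import Groth.Agent.H78.MinPrimeFlat
import Groth.Agent.H78.HensCompl.Branches
import Groth.Agent.H26.ComplFlatMap
import Groth.Agent.H13.CompleteNagata

/-!
# `c₂` ascends along flat local homomorphisms, in completed form (S16576)
-/

set_option autoImplicit false
set_option linter.style.haveILetI false
universe u

namespace Groth.Agent.H78.C2

open IsLocalRing

/-- `c₂` ascends along a flat local homomorphism from a henselian Nagata local ring -/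
theorem c2_of_flat (C D : Type u) [CommRing C] [HenselianLocalRing C] [IsNoetherianRing C]
    (hN : CAlg.IsNagata C) [CommRing D] [IsNoetherianRing D] [IsLocalRing D] [Algebra C D]
    [IsLocalHom (algebraMap C D)] [Module.Flat C D]
    (hC : ∀ p ∈ minimalPrimes C, (2 : WithBot ℕ∞) ≤ ringKrullDim (C ⧸ p)) :
    ∀ q ∈ minimalPrimes D, (2 : WithBot ℕ∞) ≤ ringKrullDim (D ⧸ q) := by
  intro q hq
  haveI : q.IsPrime := hq.1.1
  have hp : q.under C ∈ minimalPrimes C :=
    Groth.Agent.H78.MinPrimeFlat.under_mem_minimalPrimes (R := C) (S := D) hq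
  obtain ⟨K, _, _, _, _, _, _, _, hdim, hker⟩ := exists_normal_cover C hN (q.under C)
  exact two_le_dim_quotient_of_normal_cover (C := C) (D := D) (K := K)
    (by rw [hdim]; exact hC _ hp) q hq hker

/-- S16576 -/
theorem main
    (A B : Type u) [CommRing A] [CommRing B] [IsNoetherianRing A] [IsNoetherianRing B]
    [IsLocalRing A] [IsLocalRing B] (f : A →+* B) [IsLocalHom f] (hf : f.Flat)
    (hA : ∀ q ∈ minimalPrimes (AdicCompletion (IsLocalRing.maximalIdeal A) A),
      (2 : WithBot ℕ∞) ≤ ringKrullDim (AdicCompletion (IsLocalRing.maximalIdeal A) A ⧸ q)) :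
    ∀ q ∈ minimalPrimes (AdicCompletion (IsLocalRing.maximalIdeal B) B),
      (2 : WithBot ℕ∞) ≤ ringKrullDim (AdicCompletion (IsLocalRing.maximalIdeal B) B ⧸ q) := by
  letI algAB : Algebra A B := f.toAlgebra
  haveI : IsLocalHom (algebraMap A B) := ‹IsLocalHom f›
  haveI : Module.Flat A B := hf
  letI := Groth.Agent.H26.ComplFlatMap.complAlgebra A B
  haveI := Groth.Agent.H26.ComplFlatMap.flat_complHom A B
  haveI : IsLocalHom (algebraMap (AdicCompletion (maximalIdeal A) A)
      (AdicCompletion (maximalIdeal B) B)) :=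
    Groth.Agent.H26.ComplFlatMap.isLocalHom_complHom A B
  haveI := Groth.Agent.H78.HensCompl.henselianLocalRing_adicCompletion A
  haveI : IsNoetherianRing (AdicCompletion (maximalIdeal A) A) :=
    Groth.Agent.H20.isNoetherianRing_adicCompletion _
  haveI : IsNoetherianRing (AdicCompletion (maximalIdeal B) B) :=
    Groth.Agent.H20.isNoetherianRing_adicCompletion _
  haveI : IsAdicComplete (maximalIdeal (AdicCompletion (maximalIdeal A) A))
      (AdicCompletion (maximalIdeal A) A) :=
    AdicCompletion.isAdicComplete_of_fg (maximalIdeal A).fg_of_isNoetherianRing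
  have hN : CAlg.IsNagata (AdicCompletion (maximalIdeal A) A) :=
    Groth.Agent.H13.CompleteNagata.isNagata_of_complete_local _
  exact c2_of_flat (AdicCompletion (maximalIdeal A) A) (AdicCompletion (maximalIdeal B) B) hN hA

end Groth.Agent.H78.C2
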