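import Mathlib
import Groth.Prelude.Def_Hensel
import Groth.Prelude.Def_CAlg2
import Groth.Agent.H14.HensProp.BranchCount
import Groth.Agent.H3.HensDim
import Groth.Agent.H3.HensIntegralBC2
import Groth.Agent.H54.Dim

/-!
# `c₂` for the normalization and for the henselization (towards S16575)
-/

set_option autoImplicit false
set_option linter.style.haveILetI false
universe u

namespace Groth.Agent.H78.C2

open IsLocalRing TensorProduct Groth.Agent.H3.UnionEtale Groth.Agent.H14.HensProp

section Height

variable {R S : Type*} [CommRing R] [CommRing S] [Algebra R S]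

/-- going down: the height of the contraction is at most the height -/
theorem height_under_le_of_hasGoingDown [Algebra.HasGoingDown R S] (P : Ideal S) [P.IsPrime] :
    (P.under R).height ≤ P.height := by
  have h1 := PrimeSpectrum.height_eq_orderHeight (⟨P.under R, inferInstance⟩ : PrimeSpectrum R)
  have h2 := PrimeSpectrum.height_eq_orderHeight (⟨P, inferInstance⟩ : PrimeSpectrum S)
  change (P.under R).height = _ at h1
  change P.height = _ at h2
  rw [h1, h2, Order.height_eq_iSup_last_eq]
  refine iSup₂_le fun l hl => ?_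
  haveI : P.LiesOver l.last.asIdeal := ⟨by rw [hl]⟩
  obtain ⟨L, hL, hlast, -⟩ := Ideal.exists_ltSeries_of_hasGoingDown l P
  rw [← hL, ← hlast]
  exact Order.length_le_height_last

/-- if contraction is strictly monotone on primes, the height is at most the height of the
contraction -/
theorem height_le_height_under_of_strictMono
    (hmono : ∀ q q' : Ideal S, q.IsPrime → q'.IsPrime → q < q' → q.under R < q'.under R)
    (P : Ideal S) [P.IsPrime] : P.height ≤ (P.under R).height := by
  have h1 := PrimeSpectrum.height_eq_orderHeight (⟨P.under R, inferInstance⟩ : PrimeSpectrum R)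
  have h2 := PrimeSpectrum.height_eq_orderHeight (⟨P, inferInstance⟩ : PrimeSpectrum S)
  change (P.under R).height = _ at h1
  change P.height = _ at h2
  rw [h1, h2]
  have hf : StrictMono (PrimeSpectrum.comap (algebraMap R S)) := by
    intro q q' h
    exact hmono q.asIdeal q'.asIdeal q.isPrime q'.isPrime h
  exact Order.height_le_height_apply_of_strictMono _ hf ⟨P, inferInstance⟩

end Height

section Abstract

variable (A S A' : Type u) [CommRing A] [IsLocalRing A] [CommRing S]
  [IsLocalRing S] [Algebra A S] [IsLocalHom (algebraMap A S)] [Hensel.IsHenselization A S]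
  [CommRing A'] [Algebra A A'] [Algebra.IsIntegral A A']

/-- the key dimension equality -/
theorem key_abstract
    (hdom : ∀ (M : Ideal (A' ⊗[A] S)) [M.IsMaximal], IsDomain (Localization.AtPrime M))
    (Q : Ideal (A' ⊗[A] S)) (hQ : Q ∈ minimalPrimes (A' ⊗[A] S))
    (M : Ideal (A' ⊗[A] S)) [M.IsMaximal] (hQM : Q ≤ M) :
    ringKrullDim (S ⧸ Q.comap (Algebra.TensorProduct.includeRight : S →ₐ[A] A' ⊗[A] S).toRingHom) =
      ringKrullDim (Localization.AtPrime (M.under A')) := by
  have hH : Hensel.IsHenselization A S := inferInstance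
  letI algST : Algebra S (A' ⊗[A] S) := Algebra.TensorProduct.rightAlgebra
  haveI : Algebra.IsIntegral S (A' ⊗[A] S) := ⟨TensorMax.isIntegral_includeRight A S A'⟩
  haveI hSh : HenselianLocalRing S := hH.henselian
  have hPS := Groth.Agent.H3.HensIso.isPairHenselization_of_isHenselization hH
  have hT : Hens2.IsPairHenselization A' ((maximalIdeal A).map (algebraMap A A')) (A' ⊗[A] S) :=
    Groth.Agent.H3.HensIntegralBC.isPairHenselization_tensor (maximalIdeal A) _ le_rfl rfl hPS
  haveI : Module.Flat A S := Groth.Agent.H3.HensFlatMain.flat hPS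
  haveI : Q.IsPrime := hQ.1.1
  haveI := hdom M
  have e1 : ringKrullDim (S ⧸ Q.comap (algebraMap S (A' ⊗[A] S))) =
      ringKrullDim ((A' ⊗[A] S) ⧸ Q) := by
    haveI : Algebra.IsIntegral (S ⧸ Q.comap (algebraMap S (A' ⊗[A] S)))
        ((A' ⊗[A] S) ⧸ Q) := Algebra.IsIntegral.quotient
    exact Groth.Agent.H54.ringKrullDim_eq_of_isIntegral_of_injective
      (Ideal.algebraMap_quotient_injective)
  haveI := IntHensMax.liesOver_of_isMaximal S (A' ⊗[A] S) M
  have hsurj := Groth.Agent.H3.HensIntegralLocal.algebraMap_localization_surjective S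
    (A' ⊗[A] S) M
  have hker : RingHom.ker (algebraMap (A' ⊗[A] S) (Localization.AtPrime M)) = Q := by
    have h1 := IntHensMax.ker_le_of_le M Q hQM
    have hp : (RingHom.ker (algebraMap (A' ⊗[A] S)
        (Localization.AtPrime M))).IsPrime := RingHom.ker_isPrime _
    exact le_antisymm h1 (hQ.2 ⟨hp, bot_le⟩ h1)
  have e2 : ringKrullDim ((A' ⊗[A] S) ⧸ Q) =
      ringKrullDim (Localization.AtPrime M) := by
    have e := RingHom.quotientKerEquivOfSurjective hsurj
    have e' := Ideal.quotEquivOfEq hker
    exact ringKrullDim_eq_of_ringEquiv (e'.symm.trans e)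
  have e3 : ringKrullDim (Localization.AtPrime M) = M.height :=
    IsLocalization.AtPrime.ringKrullDim_eq_height M _
  have e4 : ringKrullDim (Localization.AtPrime (M.under A')) = (M.under A').height :=
    IsLocalization.AtPrime.ringKrullDim_eq_height _ _
  have e5 : M.height = (M.under A').height := by
    refine le_antisymm ?_ (height_under_le_of_hasGoingDown M)
    exact height_le_height_under_of_strictMono
      (fun q q' hq hq' h => @Groth.Agent.H3.HensDim.under_lt_under _ _ _ _ _ _ hT q q' hq hq' h) M
  change ringKrullDim (S ⧸ Q.comap (algebraMap S (A' ⊗[A] S))) = _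
  rw [e1, e2, e3, e4, e5]

/-- abstract form of (i) ⇔ (ii) -/
theorem c2_abstract [Module.FaithfullyFlat A S]
    (hdom : ∀ (M : Ideal (A' ⊗[A] S)) [M.IsMaximal], IsDomain (Localization.AtPrime M))
    (hbij : Set.BijOn (fun P : Ideal (A' ⊗[A] S) =>
        P.comap (Algebra.TensorProduct.includeRight.toRingHom : S →+* A' ⊗[A] S))
      (minimalPrimes (A' ⊗[A] S)) (minimalPrimes S)) :
    (∀ m' : MaximalSpectrum A',
        (2 : WithBot ℕ∞) ≤ ringKrullDim (Localization.AtPrime m'.asIdeal)) ↔
      ∀ p ∈ minimalPrimes S, (2 : WithBot ℕ∞) ≤ ringKrullDim (S ⧸ p) := by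
  constructor
  · intro h p hp
    obtain ⟨Q, hQ, hQp⟩ := hbij.surjOn hp
    haveI : Q.IsPrime := hQ.1.1
    obtain ⟨M, hM, hQM⟩ := Ideal.exists_le_maximal Q (Ideal.IsPrime.ne_top inferInstance)
    haveI := hM
    have hm' : (M.under A').IsMaximal :=
      TensorMax.isMaximal_comap_includeLeft A S A' M
    have h1 := key_abstract A S A' hdom Q hQ M hQM
    have h2 : Q.comap (Algebra.TensorProduct.includeRight : S →ₐ[A] A' ⊗[A] S).toRingHom = p :=
      hQp
    rw [h2] at h1
    rw [h1]
    exact h ⟨M.under A', hm'⟩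
  · intro h m'
    obtain ⟨m', hm'⟩ := m'
    haveI := hm'
    obtain ⟨M, hM, hMm⟩ := TensorMax.exists_comap_eq A S A' m'
    haveI := hM
    obtain ⟨Q, hQ, hQM⟩ := Ideal.exists_minimalPrimes_le (bot_le : (⊥ : Ideal _) ≤ M)
    have hp : Q.comap (Algebra.TensorProduct.includeRight : S →ₐ[A] A' ⊗[A] S).toRingHom ∈
        minimalPrimes S := hbij.mapsTo hQ
    have h1 := key_abstract A S A' hdom Q hQ M hQM
    have h2 : M.under A' = m' := hMm
    subst h2
    change (2 : WithBot ℕ∞) ≤ ringKrullDim (Localization.AtPrime (M.under A'))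
    rw [← h1]
    exact h _ hp

end Abstract

section Norm

variable (A S : Type u) [CommRing A] [IsLocalRing A] [IsNoetherianRing A] [CommRing S]
  [IsLocalRing S] [Algebra A S] [IsLocalHom (algebraMap A S)]

/-- the local rings of `normRed A ⊗ A^h` at maximal ideals are domains -/
theorem isDomain_localization_normRed_tensor [Hensel.IsHenselization A S]
    (M : Ideal (CAlg2.normRed A ⊗[A] S)) [M.IsMaximal] : IsDomain (Localization.AtPrime M) := by
  have hH : Hensel.IsHenselization A S := inferInstance
  obtain ⟨hU, hff⟩ := Groth.Agent.H3.HensUnion.package (Or.inl hH)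
  have hfin : (minimalPrimes A).Finite := minimalPrimes.finite_of_isNoetherianRing A
  have hredR : IsReduced (CAlg2.red A) :=
    (Ideal.isRadical_iff_quotient_reduced _).mp (Ideal.radical_isRadical _)
  haveI hfinR : Finite (Groth.Agent.H38.MinPrime (CAlg2.red A)) :=
    Groth.Agent.H38.finite_minPrime_red A hfin
  have hnorm : ∀ (p : Ideal (CAlg2.normRed A)) [p.IsPrime],
      IsDomain (Localization.AtPrime p) ∧ IsIntegrallyClosed (Localization.AtPrime p) := by
    intro p hp
    exact Groth.Agent.H38.localization_integralClosure (A := CAlg2.red A) ⟨p, hp⟩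
  have hUT : IsUnion (CAlg2.normRed A) (CAlg2.normRed A ⊗[A] S) :=
    StrictUni.isUnion_baseChange A S (CAlg2.normRed A) hU
  exact LocUnionDomain.isDomain_localization (CAlg2.normRed A) (CAlg2.normRed A ⊗[A] S) hUT
    hnorm M

/-- (i) ⇔ (ii) of S16575 -/
theorem c2_normalization_iff_henselization [Hensel.IsHenselization A S] :
    (∀ m' : MaximalSpectrum (CAlg2.normRed A),
        (2 : WithBot ℕ∞) ≤ ringKrullDim (Localization.AtPrime m'.asIdeal)) ↔
      ∀ p ∈ minimalPrimes S, (2 : WithBot ℕ∞) ≤ ringKrullDim (S ⧸ p) := by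
  have hH : Hensel.IsHenselization A S := inferInstance
  obtain ⟨hU, hff⟩ := Groth.Agent.H3.HensUnion.package (Or.inl hH)
  haveI : Module.FaithfullyFlat A S := hff
  exact c2_abstract A S (CAlg2.normRed A)
    (fun M _ => isDomain_localization_normRed_tensor A S M)
    (NormHensMin.bijOn_minimalPrimes_henselization (A := A) (Ah := S))

end Norm

end Groth.Agent.H78.C2
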