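import Mathlib
import Groth.Prelude.Def_Hensel
import Groth.Agent.H78.C2.Basic
import Groth.Agent.H14.HensProp.HhToHsh2
import Groth.Agent.H14.HensProp.BranchCount
import Groth.Agent.H78.HensQF.Forward
import Groth.Agent.H54.Dim

/-!
# `c₂` for the henselization and for the strict henselization (towards S16575)
-/

set_option autoImplicit false
set_option linter.style.haveILetI false
universe u

namespace Groth.Agent.H78.C2

open IsLocalRing Groth.Agent.H3.UnionEtale

section Tower

variable (A Ah Ash : Type u) [CommRing A] [IsLocalRing A]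
  [CommRing Ah] [IsLocalRing Ah] [Algebra A Ah] [IsLocalHom (algebraMap A Ah)]
  [Hensel.IsHenselization A Ah]
  [CommRing Ash] [IsLocalRing Ash] [Algebra A Ash] [IsLocalHom (algebraMap A Ash)]
  [Hensel.IsStrictHenselization A Ash] [Algebra Ah Ash] [IsScalarTower A Ah Ash]

include A in
/-- the strict henselization is integral over the henselization -/
theorem isIntegral_hh_hsh : Algebra.IsIntegral Ah Ash := by
  have hH : Hensel.IsHenselization A Ah := inferInstance
  haveI : HenselianLocalRing Ah := hH.henselian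
  haveI := Groth.Agent.H14.HensProp.HhToHsh.isLocalHom_algebraMap A Ah Ash
  refine ⟨fun x => ?_⟩
  obtain ⟨C, _, _, hEt, φ, hφ⟩ := Groth.Agent.H14.HensProp.HhToHsh.isUnion_algebraMap A Ah Ash x
  obtain ⟨c, rfl⟩ := hφ rfl
  let q : Ideal C := (maximalIdeal Ash).comap φ.toRingHom
  haveI : q.IsPrime := Ideal.comap_isPrime _ _
  haveI : q.LiesOver (maximalIdeal Ah) := ⟨by
    have h4 : (maximalIdeal Ash).comap (algebraMap Ah Ash) = maximalIdeal Ah :=
      IsLocalRing.maximalIdeal_comap (algebraMap Ah Ash)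
    rw [Ideal.under_def, Ideal.comap_comap, ← h4]
    congr 1
    exact φ.comp_algebraMap.symm⟩
  haveI : Module.Finite Ah (Localization.AtPrime q) :=
    Groth.Agent.H78.HensQF.finite_atPrime_of_henselian Ah C q
  let ψ : Localization.AtPrime q →ₐ[Ah] Ash :=
    IsLocalization.liftAlgHom (M := q.primeCompl) (f := φ) (fun y => by
      have hy : φ y ∉ maximalIdeal Ash := y.2
      exact IsLocalRing.notMem_maximalIdeal.mp hy)
  have h1 : φ c = ψ (algebraMap C _ c) := (IsLocalization.lift_eq _ _).symm
  rw [h1]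
  exact (Algebra.IsIntegral.isIntegral (R := Ah) _).map ψ

include A in
/-- `c₂` for the henselization iff for the strict henselization (with a compatible algebra
structure) -/
theorem c2_hh_iff_hsh :
    (∀ p ∈ minimalPrimes Ah, (2 : WithBot ℕ∞) ≤ ringKrullDim (Ah ⧸ p)) ↔
      ∀ p ∈ minimalPrimes Ash, (2 : WithBot ℕ∞) ≤ ringKrullDim (Ash ⧸ p) := by
  haveI := Groth.Agent.H14.HensProp.HhToHsh.isLocalHom_algebraMap A Ah Ash
  haveI := Groth.Agent.H14.HensProp.HhToHsh.flat_algebraMap A Ah Ash
  haveI := Groth.Agent.H14.HensProp.HhToHsh.faithfullyFlat_algebraMap A Ah Ash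
  haveI := isIntegral_hh_hsh A Ah Ash
  have key : ∀ Q ∈ minimalPrimes Ash,
      ringKrullDim (Ah ⧸ Q.comap (algebraMap Ah Ash)) = ringKrullDim (Ash ⧸ Q) := by
    intro Q hQ
    haveI : Algebra.IsIntegral (Ah ⧸ Q.comap (algebraMap Ah Ash)) (Ash ⧸ Q) :=
      Algebra.IsIntegral.quotient
    exact Groth.Agent.H54.ringKrullDim_eq_of_isIntegral_of_injective
      (Ideal.algebraMap_quotient_injective)
  constructor
  · intro h Q hQ
    rw [← key Q hQ]
    exact h _ (Groth.Agent.H78.MinPrimeFlat.under_mem_minimalPrimes (R := Ah) (S := Ash) hQ)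
  · intro h p hp
    obtain ⟨Q, hQ, hQp⟩ :=
      Groth.Agent.H14.HensProp.BranchCount.exists_minimalPrimes_comap_eq Ah Ash p hp
    have := h Q hQ
    rw [← key Q hQ, hQp] at this
    exact this

end Tower

section Main

variable (A S S' : Type u) [CommRing A] [IsLocalRing A]
  [CommRing S] [IsLocalRing S] [Algebra A S] [IsLocalHom (algebraMap A S)]
  [Hensel.IsHenselization A S]
  [CommRing S'] [IsLocalRing S'] [Algebra A S'] [IsLocalHom (algebraMap A S')]
  [Hensel.IsStrictHenselization A S']

include A in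
theorem c2_henselization_iff_strictHenselization :
    (∀ p ∈ minimalPrimes S, (2 : WithBot ℕ∞) ≤ ringKrullDim (S ⧸ p)) ↔
      ∀ p ∈ minimalPrimes S', (2 : WithBot ℕ∞) ≤ ringKrullDim (S' ⧸ p) := by
  have hH : Hensel.IsHenselization A S := inferInstance
  have hS' : Hensel.IsStrictHenselization A S' := inferInstance
  haveI : HenselianLocalRing S' := hS'.henselian
  obtain ⟨g, hg, -⟩ := hH.universal S' (algebraMap A S') inferInstance
  letI : Algebra S S' := g.toAlgebra
  haveI : IsScalarTower A S S' := IsScalarTower.of_algebraMap_eq fun x => by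
    rw [← hg]; rfl
  exact c2_hh_iff_hsh A S S'

end Main

end Groth.Agent.H78.C2
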